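import Cfsg.Agent.Lib.CosetEnum.Defs

/-! Generated table data. -/

set_option autoImplicit false
set_option maxRecDepth 20000

namespace Cfsg.Lib.CosetEnum.Fi22Sub_bcdef

/-- Table data. -/
def tabC_0_0 : Tab :=
  (.node 10 (.node 5 (.node 2 (.node 1 (.leaf 0x4000000000000000f) (.leaf 0x40000000000000010)) (.node 1 (.leaf 0x40000000000000011) (.node 1 (.leaf 0x40000000000000012) (.leaf 0x1000000000000000140000200000000008)))) (.node 2 (.node 1 (.leaf 0x1000004000010000240000200000400007) (.leaf 0x1000008000020000280000200000800006)) (.node 1 (.leaf 0x100000000000000018000020000000000b) (.node 1 (.leaf 0x100000400001000030000020000040000a) (.leaf 0x10000000000000001c000020000000000d))))) (.node 5 (.node 2 (.node 1 (.leaf 0x1000010000030000100000300002c0000300000c00005) (.leaf 0x100000c0000200000c000020000340000300000800009)) (.node 1 (.leaf 0x1000010000100000100000100001000006) (.node 1 (.leaf 0x10000080000100000800001000038000030000040000c) (.leaf 0x100000c0001200000c0000100000c0000a)))) (.node 2 (.node 1 (.leaf 0x1000010000130000100000100001000007) (.leaf 0x10000040000000000400000000020000030000000000e))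 (.node 1 (.leaf 0x100000800015000008000010000080000d) (.node 1 (.leaf 0x100000c0001600000c0000100000c0000b) (.leaf 0x1000010000170000100000100001000008))))))

/-- Table data. -/
def tabC_0 : Tab :=
  tabC_0_0

end Cfsg.Lib.CosetEnum.Fi22Sub_bcdef
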