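import Cfsg.Agent.Lib.CosetEnum.Defs

/-! Generated table data. -/

set_option autoImplicit false
set_option maxRecDepth 20000

namespace Cfsg.Lib.CosetEnum.Fi22Sub_bcdef

/-- Table data. -/
def tabF_0_0 : Tab :=
  (.leaf 0x280000a50000000000200000850000000000180000650000000000100000450000000000280000a40000000000200000840000000000180000640000000000280000a30000000000200000830000000000280000a20000000000080000230000000000100000420000000000080000220000000000180000610000000000100000410000000000080000210000000000000000040000000000000000030000000000000000020000000000000000010000000000200000a1000000000018000082000000000010000063000000000008000044000000000000000025)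

/-- Table data. -/
def tabF_0 : Tab :=
  tabF_0_0

end Cfsg.Lib.CosetEnum.Fi22Sub_bcdef
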